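/-!
Element orders in four cosets of the stabiliser of four points, for counting the element orders
of the Mathieu group of degree 22. Words refer to the tables of `CfsgLib.Mathieu.chain24`.
-/

set_option autoImplicit false

namespace CfsgLib.M22Count

/-- A word mapping the base points to their images in case A. -/
def quadWA : List Nat := []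

/-- A word mapping the base points to their images in case B. -/
def quadWB : List Nat := [5, 11, 6, 6]

/-- A word mapping the base points to their images in case C. -/
def quadWC : List Nat := [6, 3, 6, 6, 3, 3]

/-- A word mapping the base points to their images in case D. -/
def quadWD : List Nat := [5, 5, 3, 11, 3]

/-- The element orders in case A. -/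
def ordsA : List Nat :=
  [3, 3, 3, 3, 3, 3, 3, 3, 3, 3, 3, 3, 3, 3, 3, 3, 3, 3, 3, 3, 3, 3, 3, 3, 3, 3, 3, 3, 3, 3,
   3, 3, 1, 2, 2, 2, 2, 2, 2, 2, 2, 2, 2, 2, 2, 2, 2, 2, 5, 5, 3, 5, 3, 3, 5, 3, 4, 5, 2, 4,
   5, 4, 5, 5, 5, 5, 5, 4, 5, 5, 2, 5, 3, 5, 3, 3, 5, 3, 4, 4, 4, 2, 5, 5, 5, 5, 5, 5, 3, 4,
   3, 3, 4, 3, 5, 5, 3, 3, 4, 5, 4, 2, 5, 4, 5, 3, 5, 5, 3, 5, 5, 5, 4, 4, 5, 5, 5, 5, 5, 5,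
   3, 2, 3, 3, 4, 3, 5, 5, 3, 3, 5, 4, 5, 5, 4, 5, 5, 3, 5, 5, 3, 5, 2, 4, 4, 4, 2, 4, 2, 2,
   4, 2, 4, 4, 4, 4, 4, 4, 4, 4, 3, 3, 3, 3, 3, 3, 3, 3, 3, 3, 3, 3, 3, 3, 3, 3, 3, 3, 3, 3,
   3, 3, 3, 3, 3, 3, 3, 3, 3, 3, 3, 3, 3, 3, 5, 2, 5, 5, 4, 5, 5, 3, 5, 5, 3, 5, 4, 4, 5, 5,
   5, 3, 5, 5, 3, 5, 4, 5, 4, 4, 5, 2, 3, 3, 5, 5, 4, 3, 4, 4, 3, 2, 5, 5, 5, 5, 5, 5, 3, 3,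
   3, 3, 5, 5, 5, 5, 5, 5, 4, 3, 2, 4, 3, 4, 5, 5, 5, 5, 3, 5, 3, 3, 5, 3, 4, 5, 4, 2, 5, 4,
   5, 5, 5, 5, 5, 3, 5, 5, 3, 5, 2, 5, 4, 4, 5, 4, 3, 3, 2, 2, 4, 4, 4, 4, 4, 4, 4, 2, 4, 4,
   2, 4, 4, 4, 3, 3, 3, 3, 3, 3, 3, 3, 3, 3, 3, 3, 3, 3, 3, 3, 3, 3, 3, 3, 3, 3, 3, 3, 3, 3,
   3, 3, 3, 3, 3, 3, 3, 3, 2, 5, 4, 4, 5, 4, 5, 3, 5, 5, 3, 5, 5, 5, 4, 4, 5, 5, 5, 5, 5, 5,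
   3, 4, 3, 3, 2, 3, 5, 5, 3, 3, 5, 4, 5, 5, 4, 5, 5, 3, 5, 5, 3, 5, 4, 2, 3, 3, 3, 3, 3, 3,
   3, 3, 3, 3, 3, 3, 3, 3, 3, 3, 3, 3, 3, 3, 3, 3, 3, 3, 3, 3, 3, 3, 3, 3, 3, 3, 2, 2, 4, 4,
   4, 4, 4, 4, 4, 2, 4, 4, 2, 4, 4, 4, 4, 4, 3, 5, 3, 3, 5, 3, 5, 2, 5, 5, 4, 5, 5, 5, 5, 5,
   4, 3, 4, 2, 3, 4, 5, 5, 5, 5, 5, 5, 3, 3, 5, 5, 3, 5, 3, 3, 5, 3, 4, 5, 4, 2, 5, 4, 5, 5,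
   3, 3, 5, 4, 5, 5, 2, 5, 5, 3, 5, 5, 3, 5, 4, 4, 2, 4, 3, 5, 3, 3, 5, 3, 5, 4, 5, 5, 4, 5,
   5, 5, 3, 3, 5, 5, 5, 5, 5, 5, 4, 3, 4, 2, 3, 4, 5, 5, 3, 3, 5, 4, 5, 5, 2, 5, 5, 3, 5, 5,
   3, 5, 4, 4, 5, 5, 5, 3, 5, 5, 3, 5, 4, 5, 2, 4, 5, 4, 3, 3, 5, 5, 4, 3, 2, 4, 3, 4, 5, 5,
   5, 5, 5, 5, 3, 3, 5, 5, 4, 3, 2, 4, 3, 4, 5, 5, 5, 5, 5, 5, 3, 3, 3, 3, 5, 2, 5, 5, 4, 5,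
   5, 3, 5, 5, 3, 5, 4, 4, 5, 5, 5, 3, 5, 5, 3, 5, 4, 5, 4, 2, 5, 4, 3, 3, 5, 5, 3, 5, 3, 3,
   5, 3, 4, 5, 4, 2, 5, 4, 5, 5, 5, 5, 5, 4, 5, 5, 4, 5, 3, 5, 3, 3, 5, 3, 2, 4, 4, 4, 5, 5,
   5, 5, 5, 5, 3, 2, 3, 3, 4, 3, 5, 5, 4, 4, 3, 5, 3, 3, 5, 3, 5, 4, 5, 5, 2, 5, 5, 5, 5, 5,
   2, 3, 4, 4, 3, 4, 5, 5, 5, 5, 5, 5, 3, 3, 5, 5, 3, 5, 3, 3, 5, 3, 2, 5, 4, 4, 5, 4, 5, 5,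
   5, 5, 5, 4, 5, 5, 4, 5, 3, 5, 3, 3, 5, 3, 2, 4, 3, 3, 5, 5, 5, 5, 5, 5, 4, 3, 4, 2, 3, 4,
   5, 5, 5, 5, 4, 5, 4, 2, 5, 4, 3, 5, 3, 3, 5, 3, 5, 5, 5, 5, 3, 2, 3, 3, 4, 3, 5, 5, 5, 5,
   5, 5, 4, 4, 3, 3, 5, 4, 5, 5, 4, 5, 5, 3, 5, 5, 3, 5, 4, 2, 5, 5, 5, 4, 5, 5, 4, 5, 3, 5,
   3, 3, 5, 3, 2, 4, 5, 5, 3, 4, 3, 3, 2, 3, 5, 5, 5, 5, 5, 5, 4, 4, 3, 3, 5, 4, 5, 5, 4, 5,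
   5, 3, 5, 5, 3, 5, 2, 4, 5, 5, 5, 4, 5, 5, 4, 5, 3, 5, 3, 3, 5, 3, 4, 2, 3, 3, 5, 5, 5, 5,
   5, 5, 4, 3, 4, 4, 3, 2, 5, 5, 5, 5, 3, 5, 3, 3, 5, 3, 2, 5, 4, 4, 5, 4, 5, 5, 5, 5, 5, 3,
   5, 5, 3, 5, 4, 5, 4, 2, 5, 4, 3, 3, 5, 5, 3, 5, 3, 3, 5, 3, 4, 5, 4, 4, 5, 2, 5, 5, 5, 5,
   5, 2, 5, 5, 4, 5, 3, 5, 3, 3, 5, 3, 4, 4, 2, 4, 5, 5, 5, 5, 5, 5, 3, 4, 3, 3, 4, 3, 5, 5]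

/-- The element orders in case B. -/
def ordsB : List Nat :=
  [7, 5, 7, 7, 5, 4, 3, 5, 5, 5, 5, 7, 4, 4, 7, 7, 7, 7, 5, 5, 7, 5, 4, 4, 4, 3, 5, 5, 7, 7,
   5, 7, 5, 7, 4, 7, 5, 7, 5, 5, 3, 5, 7, 7, 4, 7, 5, 4, 7, 5, 7, 7, 5, 4, 3, 5, 5, 5, 5, 7,
   4, 4, 7, 7, 7, 7, 5, 4, 4, 5, 5, 7, 5, 7, 7, 4, 3, 5, 7, 5, 4, 5, 5, 4, 7, 5, 5, 4, 7, 7,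
   7, 7, 5, 3, 5, 7, 7, 7, 4, 5, 5, 5, 5, 7, 4, 7, 7, 5, 3, 5, 7, 4, 5, 7, 4, 3, 5, 7, 7, 5,
   7, 4, 4, 5, 5, 5, 7, 7, 5, 5, 7, 4, 3, 7, 5, 7, 5, 7, 5, 4, 4, 7, 5, 7, 5, 4, 7, 5, 3, 7,
   4, 7, 5, 7, 4, 5, 5, 7, 5, 7, 4, 7, 5, 7, 4, 7, 5, 5, 3, 5, 7, 7, 5, 7, 4, 5, 3, 7, 7, 5,
   5, 4, 7, 5, 5, 7, 4, 7, 7, 5, 5, 4, 7, 3, 5, 7, 4, 7, 4, 5, 7, 7, 4, 5, 7, 5, 5, 5, 7, 7,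
   5, 5, 5, 4, 4, 7, 5, 7, 7, 5, 3, 4, 7, 5, 3, 7, 7, 5, 5, 4, 7, 5, 5, 7, 4, 7, 7, 5, 5, 4,
   4, 7, 5, 7, 4, 7, 5, 5, 3, 5, 7, 7, 5, 7, 4, 5, 4, 5, 5, 7, 7, 4, 7, 5, 5, 7, 4, 5, 5, 7,
   7, 3, 7, 7, 4, 5, 5, 5, 5, 7, 4, 7, 7, 5, 3, 5, 7, 4, 4, 5, 7, 4, 7, 7, 5, 3, 5, 5, 7, 5,
   7, 4, 7, 5, 7, 7, 5, 5, 5, 4, 4, 7, 5, 7, 7, 5, 3, 4, 7, 5, 5, 4, 4, 7, 5, 5, 7, 7, 5, 5,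
   7, 5, 7, 4, 3, 7, 4, 5, 5, 4, 7, 5, 5, 4, 7, 7, 7, 7, 5, 3, 5, 7, 5, 4, 7, 5, 7, 7, 5, 3,
   5, 5, 7, 4, 7, 5, 7, 4, 5, 7, 5, 3, 4, 7, 7, 5, 7, 5, 5, 4, 4, 5, 7, 7, 7, 4, 7, 5, 5, 5,
   7, 4, 7, 5, 7, 3, 5, 7, 5, 4, 5, 5, 7, 4, 3, 7, 5, 7, 5, 7, 5, 4, 4, 7, 5, 7, 4, 7, 5, 3,
   5, 7, 7, 4, 7, 5, 5, 5, 5, 4, 7, 7, 5, 5, 5, 5, 5, 5, 5, 5, 5, 5, 5, 5, 5, 5, 5, 5, 5, 5,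
   5, 5, 5, 5, 5, 5, 5, 5, 5, 5, 5, 5, 5, 5, 3, 3, 3, 3, 3, 3, 3, 3, 3, 3, 3, 3, 3, 3, 3, 3,
   7, 7, 4, 4, 7, 5, 5, 5, 5, 3, 4, 5, 7, 7, 5, 7, 7, 4, 3, 5, 7, 7, 7, 7, 5, 5, 5, 7, 5, 4,
   4, 5, 5, 4, 5, 5, 4, 5, 4, 7, 7, 5, 3, 7, 7, 7, 7, 5, 7, 4, 7, 7, 4, 5, 3, 5, 5, 5, 4, 7,
   5, 5, 7, 7, 5, 7, 4, 3, 5, 7, 7, 5, 7, 4, 4, 5, 5, 5, 7, 7, 5, 4, 4, 7, 5, 5, 7, 7, 5, 5,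
   7, 5, 7, 4, 3, 7, 7, 5, 7, 4, 4, 5, 7, 5, 7, 5, 7, 3, 4, 7, 5, 5, 5, 7, 4, 7, 5, 7, 5, 5,
   3, 5, 7, 7, 4, 7, 5, 4, 5, 5, 4, 4, 5, 5, 5, 7, 7, 4, 3, 7, 7, 7, 7, 5, 7, 3, 5, 7, 5, 7,
   5, 4, 7, 7, 5, 4, 7, 5, 5, 4, 5, 7, 5, 3, 4, 7, 7, 5, 7, 5, 5, 4, 4, 5, 7, 7, 5, 7, 7, 7,
   7, 3, 5, 7, 7, 4, 5, 4, 5, 5, 4, 5, 4, 4, 2, 2, 4, 4, 4, 4, 4, 4, 4, 4, 2, 2, 4, 4, 4, 4,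
   4, 2, 4, 4, 4, 2, 4, 2, 4, 2, 4, 4, 4, 4, 2, 4, 4, 2, 2, 4, 4, 4, 4, 4, 2, 4, 4, 4, 4, 4,
   7, 7, 5, 5, 5, 4, 4, 7, 5, 7, 7, 5, 3, 4, 7, 5, 7, 5, 7, 4, 4, 5, 7, 5, 7, 5, 7, 3, 4, 7,
   5, 5, 4, 7, 5, 3, 5, 7, 7, 4, 7, 5, 5, 5, 5, 4, 7, 7, 3, 3, 3, 3, 3, 3, 3, 3, 3, 3, 3, 3,
   3, 3, 3, 3, 5, 5, 5, 5, 5, 5, 5, 5, 5, 5, 5, 5, 5, 5, 5, 5, 5, 5, 5, 5, 5, 5, 5, 5, 5, 5,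
   5, 5, 5, 5, 5, 5, 5, 5, 5, 5, 5, 5, 5, 5, 5, 5, 5, 5, 5, 5, 5, 5, 5, 5, 5, 5, 5, 5, 5, 5,
   5, 5, 5, 5, 5, 5, 5, 5, 3, 3, 3, 3, 3, 3, 3, 3, 3, 3, 3, 3, 3, 3, 3, 3, 7, 7, 5, 5, 5, 4,
   4, 7, 5, 7, 7, 5, 3, 4, 7, 5, 4, 7, 7, 7, 7, 3, 5, 7, 7, 5, 4, 5, 5, 5, 5, 4, 4, 5, 5, 4,
   7, 5, 5, 4, 7, 7, 7, 7, 5, 3, 5, 7, 5, 5, 5, 5, 7, 4, 4, 5, 7, 7, 7, 7, 4, 3, 5, 7, 7, 4,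
   3, 5, 7, 7, 7, 7, 5, 5, 5, 7, 5, 4, 4, 5, 5, 5, 5, 7, 5, 4, 7, 7, 5, 4, 7, 4, 7, 5, 3, 7]

/-- The element orders in case C. -/
def ordsC : List Nat :=
  [6, 6, 6, 2, 6, 6, 4, 6, 6, 6, 6, 6, 6, 6, 4, 4, 6, 6, 8, 4, 4, 8, 8, 4, 4, 6, 8, 8, 6, 4,
   4, 8, 4, 8, 8, 4, 8, 4, 4, 4, 6, 8, 6, 6, 4, 6, 8, 8, 6, 6, 6, 6, 6, 6, 6, 6, 4, 6, 2, 4,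
   6, 4, 6, 6, 4, 4, 6, 4, 6, 6, 8, 6, 8, 8, 8, 4, 8, 4, 8, 4, 4, 8, 8, 6, 4, 4, 6, 8, 4, 4,
   8, 4, 8, 8, 6, 6, 6, 6, 4, 8, 8, 4, 4, 8, 4, 6, 8, 8, 6, 4, 8, 4, 6, 6, 6, 4, 6, 6, 4, 6,
   6, 6, 6, 6, 6, 6, 2, 4, 4, 4, 6, 4, 6, 6, 8, 6, 8, 8, 8, 4, 8, 4, 8, 4, 4, 8, 8, 6, 4, 4,
   6, 8, 4, 4, 8, 4, 8, 8, 6, 6, 4, 4, 6, 6, 6, 6, 6, 6, 6, 2, 6, 6, 4, 6, 6, 6, 8, 4, 8, 8,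
   8, 4, 8, 4, 6, 4, 6, 6, 8, 6, 4, 4, 4, 8, 4, 6, 8, 8, 6, 4, 8, 4, 4, 8, 8, 4, 6, 6, 6, 6,
   6, 2, 6, 6, 4, 6, 6, 6, 6, 6, 6, 6, 4, 4, 4, 8, 4, 6, 8, 8, 6, 4, 8, 4, 4, 8, 8, 4, 6, 6,
   6, 6, 4, 6, 2, 4, 6, 4, 6, 6, 6, 6, 6, 6, 6, 6, 6, 6, 4, 4, 8, 4, 8, 8, 8, 6, 4, 4, 6, 8,
   4, 8, 8, 4, 4, 6, 8, 8, 6, 4, 4, 8, 8, 4, 4, 8, 6, 6, 4, 8, 4, 8, 4, 8, 8, 8, 6, 8, 6, 6,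
   4, 6, 4, 4, 6, 6, 6, 4, 6, 6, 4, 6, 6, 6, 6, 6, 6, 6, 2, 4, 6, 6, 8, 4, 4, 8, 8, 4, 4, 6,
   8, 8, 6, 4, 4, 8, 6, 6, 8, 4, 4, 8, 8, 4, 4, 6, 8, 8, 6, 4, 4, 8, 6, 6, 6, 4, 6, 6, 4, 6,
   6, 6, 6, 6, 6, 6, 2, 4, 4, 4, 6, 8, 6, 6, 4, 6, 4, 8, 4, 8, 8, 8, 4, 8, 6, 6, 6, 4, 6, 6,
   4, 6, 6, 6, 6, 6, 6, 6, 4, 2, 6, 6, 4, 8, 8, 4, 4, 8, 4, 6, 8, 8, 6, 4, 8, 4, 4, 8, 4, 8,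
   4, 8, 8, 8, 6, 8, 6, 6, 4, 6, 4, 4, 4, 2, 4, 4, 4, 4, 4, 4, 2, 2, 4, 4, 4, 2, 4, 4, 4, 4,
   8, 4, 8, 8, 4, 8, 8, 4, 8, 8, 4, 8, 4, 4, 4, 4, 4, 8, 4, 4, 8, 4, 8, 4, 8, 8, 4, 8, 8, 8,
   6, 6, 6, 4, 6, 6, 4, 6, 6, 6, 6, 6, 6, 6, 2, 4, 4, 8, 8, 4, 8, 4, 4, 4, 6, 8, 6, 6, 4, 6,
   8, 8, 8, 8, 6, 4, 6, 6, 8, 6, 4, 4, 4, 8, 4, 8, 8, 4, 4, 8, 4, 6, 8, 8, 6, 4, 8, 4, 4, 8,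
   8, 4, 6, 6, 6, 6, 6, 4, 6, 6, 4, 6, 6, 6, 6, 6, 6, 6, 4, 2, 4, 8, 8, 6, 4, 4, 6, 8, 4, 4,
   8, 4, 8, 8, 6, 6, 4, 8, 8, 6, 4, 4, 6, 8, 4, 4, 8, 4, 8, 8, 6, 6, 4, 8, 8, 6, 4, 4, 6, 8,
   4, 4, 8, 4, 8, 8, 6, 6, 6, 6, 6, 4, 6, 6, 4, 6, 6, 6, 6, 6, 6, 6, 2, 4, 6, 6, 6, 6, 6, 6,
   6, 6, 4, 6, 2, 4, 6, 4, 6, 6, 8, 8, 6, 4, 6, 6, 8, 6, 4, 4, 4, 8, 4, 8, 8, 4, 4, 8, 4, 6,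
   8, 8, 6, 4, 8, 4, 4, 8, 8, 4, 6, 6, 4, 4, 8, 8, 8, 8, 8, 8, 4, 4, 4, 4, 4, 4, 8, 8, 4, 4,
   8, 4, 8, 8, 4, 8, 8, 4, 8, 8, 4, 8, 4, 4, 2, 2, 2, 4, 4, 2, 4, 4, 4, 4, 4, 4, 4, 4, 4, 4,
   6, 6, 6, 6, 6, 6, 6, 6, 4, 6, 4, 4, 6, 2, 6, 6, 6, 6, 4, 4, 8, 4, 8, 8, 8, 6, 4, 4, 6, 8,
   4, 8, 4, 4, 6, 8, 6, 6, 4, 6, 4, 8, 4, 8, 8, 8, 4, 8, 4, 4, 2, 4, 2, 4, 4, 4, 4, 4, 4, 2,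
   4, 2, 4, 4, 4, 4, 4, 8, 4, 4, 8, 4, 8, 4, 8, 8, 4, 8, 8, 8, 8, 8, 4, 4, 4, 4, 4, 4, 8, 8,
   8, 8, 8, 8, 4, 4, 4, 4, 2, 4, 2, 4, 4, 4, 2, 4, 2, 4, 4, 4, 4, 4, 4, 4, 2, 4, 4, 2, 4, 4,
   4, 2, 4, 4, 2, 4, 4, 4, 4, 4, 2, 2, 4, 4, 4, 2, 4, 4, 4, 4, 4, 4, 4, 2, 6, 6, 4, 6, 2, 4,
   6, 4, 6, 6, 6, 6, 6, 6, 6, 6, 6, 6, 4, 8, 8, 4, 4, 8, 4, 6, 8, 8, 6, 4, 8, 4, 4, 8, 4, 6,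
   8, 8, 6, 4, 8, 4, 4, 8, 8, 4, 6, 6, 6, 6, 6, 6, 6, 6, 6, 6, 4, 6, 4, 4, 6, 2, 6, 6, 4, 4,
   6, 4, 6, 6, 8, 6, 8, 8, 8, 4, 8, 4, 8, 4, 4, 8, 4, 6, 8, 8, 6, 4, 8, 4, 4, 8, 8, 4, 6, 6]

/-- The element orders in case D. -/
def ordsD : List Nat :=
  [7, 7, 11, 5, 8, 5, 7, 7, 7, 6, 11, 11, 7, 4, 11, 8, 7, 8, 7, 8, 7, 6, 11, 7, 4, 11, 7, 11, 5, 11,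
   5, 7, 8, 5, 8, 7, 11, 5, 6, 7, 7, 7, 11, 4, 11, 11, 7, 7, 7, 8, 7, 8, 7, 6, 11, 7, 4, 11, 7, 11,
   5, 11, 5, 7, 4, 7, 6, 5, 7, 7, 8, 7, 5, 11, 11, 8, 11, 7, 7, 11, 7, 5, 11, 7, 4, 7, 7, 11, 5, 8,
   7, 11, 11, 8, 7, 6, 8, 11, 4, 7, 7, 11, 8, 11, 7, 5, 7, 6, 7, 7, 11, 5, 7, 7, 11, 11, 4, 11, 7, 7,
   7, 6, 5, 11, 7, 8, 5, 8, 11, 8, 11, 6, 7, 4, 7, 11, 8, 5, 11, 7, 7, 5, 7, 7, 5, 8, 5, 6, 7, 8,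
   7, 11, 4, 11, 11, 7, 7, 11, 7, 7, 7, 11, 5, 11, 11, 7, 5, 8, 7, 11, 6, 7, 4, 7, 8, 7, 8, 11, 4, 7,
   7, 11, 8, 11, 7, 5, 7, 6, 7, 7, 11, 5, 5, 5, 5, 5, 5, 5, 5, 5, 5, 5, 5, 5, 5, 5, 5, 5, 8, 4,
   8, 4, 8, 4, 8, 4, 4, 8, 4, 8, 4, 8, 4, 8, 5, 5, 5, 5, 5, 5, 5, 5, 5, 5, 5, 5, 5, 5, 5, 5,
   7, 11, 11, 7, 8, 7, 7, 5, 11, 8, 7, 11, 5, 4, 7, 6, 7, 5, 11, 7, 4, 7, 7, 11, 5, 8, 7, 11, 11, 8,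
   7, 6, 7, 7, 5, 11, 8, 11, 7, 7, 7, 6, 11, 5, 7, 8, 11, 4, 7, 6, 7, 8, 11, 4, 5, 11, 8, 7, 11, 5,
   7, 7, 7, 11, 11, 8, 11, 6, 7, 4, 7, 11, 8, 5, 11, 7, 7, 5, 7, 7, 11, 8, 11, 8, 11, 4, 7, 7, 6, 7,
   7, 7, 5, 7, 5, 11, 6, 7, 8, 11, 5, 7, 4, 11, 11, 7, 7, 8, 7, 5, 11, 7, 8, 5, 8, 7, 7, 5, 4, 11,
   7, 11, 7, 6, 7, 7, 11, 11, 8, 7, 6, 11, 7, 7, 4, 7, 11, 11, 5, 8, 5, 7, 7, 11, 11, 7, 7, 5, 8, 5,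
   11, 11, 7, 4, 7, 7, 11, 6, 7, 8, 11, 7, 7, 7, 11, 5, 7, 8, 5, 11, 8, 11, 4, 7, 6, 7, 7, 4, 7, 8,
   7, 6, 5, 7, 8, 11, 7, 5, 11, 11, 11, 7, 7, 8, 7, 4, 7, 6, 11, 7, 8, 5, 7, 11, 11, 5, 11, 7, 5, 7,
   7, 11, 4, 11, 5, 11, 7, 8, 7, 7, 11, 6, 7, 8, 11, 11, 7, 11, 7, 7, 7, 6, 7, 7, 8, 11, 4, 5, 8, 5,
   11, 7, 7, 7, 11, 5, 7, 8, 5, 11, 8, 11, 4, 7, 6, 7, 11, 11, 7, 7, 6, 7, 11, 7, 11, 4, 5, 7, 7, 8,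
   5, 8, 4, 11, 8, 7, 7, 11, 8, 5, 7, 11, 7, 6, 7, 7, 5, 11, 5, 5, 5, 5, 5, 5, 5, 5, 5, 5, 5, 5,
   5, 5, 5, 5, 8, 4, 8, 4, 4, 4, 8, 8, 4, 4, 8, 8, 8, 4, 8, 4, 5, 5, 5, 5, 5, 5, 5, 5, 5, 5,
   5, 5, 5, 5, 5, 5, 6, 6, 3, 6, 6, 6, 6, 6, 3, 6, 6, 6, 3, 6, 6, 3, 6, 6, 6, 6, 6, 3, 3, 6,
   6, 6, 6, 6, 3, 3, 6, 6, 3, 3, 3, 3, 3, 3, 3, 3, 3, 3, 3, 3, 3, 3, 3, 3, 4, 11, 8, 7, 5, 11,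
   6, 7, 7, 7, 11, 8, 11, 5, 7, 7, 8, 5, 8, 7, 11, 5, 6, 7, 7, 7, 11, 4, 11, 11, 7, 7, 8, 7, 6, 11,
   7, 7, 4, 7, 11, 11, 5, 8, 5, 7, 7, 11, 11, 4, 11, 8, 5, 8, 7, 7, 6, 7, 7, 7, 11, 7, 11, 5, 11, 5,
   7, 5, 7, 7, 7, 6, 7, 7, 4, 11, 8, 11, 8, 11, 8, 5, 8, 7, 7, 5, 4, 11, 7, 11, 7, 6, 7, 7, 11, 11,
   8, 8, 8, 8, 4, 8, 8, 4, 8, 4, 4, 8, 4, 4, 4, 4, 5, 5, 5, 5, 5, 5, 5, 5, 5, 5, 5, 5, 5, 5,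
   5, 5, 5, 5, 5, 5, 5, 5, 5, 5, 5, 5, 5, 5, 5, 5, 5, 5, 5, 11, 7, 7, 6, 7, 5, 7, 11, 8, 11, 7,
   7, 4, 11, 8, 4, 7, 6, 5, 7, 7, 8, 7, 5, 11, 11, 8, 11, 7, 7, 11, 5, 7, 7, 7, 11, 11, 7, 4, 11, 11,
   8, 5, 8, 7, 6, 7, 7, 5, 11, 5, 11, 7, 11, 4, 7, 11, 6, 7, 8, 7, 8, 7, 7, 11, 11, 11, 5, 7, 11, 8,
   7, 5, 6, 7, 8, 7, 4, 7, 7, 7, 5, 7, 7, 11, 5, 8, 11, 7, 4, 7, 6, 11, 8, 11, 4, 7, 6, 5, 7, 7,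
   8, 7, 5, 11, 11, 8, 11, 7, 7, 11, 5, 11, 7, 11, 7, 7, 7, 6, 7, 7, 8, 5, 8, 11, 4, 11, 5, 7, 7, 11,
   4, 11, 5, 11, 7, 8, 7, 7, 11, 6, 7, 8, 7, 7, 11, 7, 7, 5, 11, 8, 5, 7, 8, 7, 6, 11, 4, 11, 6, 7,
   4, 5, 11, 7, 8, 11, 5, 7, 7, 8, 7, 11, 11, 7, 11, 4, 11, 8, 5, 8, 7, 7, 6, 7, 7, 7, 11, 7, 11, 5]

end CfsgLib.M22Count
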